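import Mathlib.RingTheory.MvPolynomial.Homogeneous
import Mathlib.RingTheory.GradedAlgebra.Radical
import Mathlib.LinearAlgebra.FiniteDimensional.Basic
import Groth.Agent.DimLib.ProjPrime

/-!
# Hilbert functions of homogeneous ideals, and induction along homogeneous prime quotients
-/

set_option autoImplicit false

universe u

open MvPolynomial Groth.Agent.DimLib.PN

namespace Groth.Agent.Hilb24

variable {n : ℕ} {k : Type u} [Field k]

local notation "S" => MvPolynomial (Fin (n + 1)) k
local notation "𝒜" => CohB1.polyGrading n k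

/-- The Hilbert function of `S/I`. -/
noncomputable def hfun (I : Ideal S) (m : ℕ) : ℚ :=
  (Module.finrank k ↥(𝒜 m) : ℚ) - Module.finrank k ↥(Submodule.restrictScalars k I ⊓ 𝒜 m)

instance finite_piece (m : ℕ) : FiniteDimensional k (𝒜 m) :=
  Module.Finite.iff_fg.2 (MvPolynomial.homogeneousSubmodule_fg _ k m)

/-- The colon ideal `(I : a)`. -/
noncomputable def col (I : Ideal S) (a : S) : Ideal S := Submodule.comap (LinearMap.mulLeft S a) I

theorem mem_col {I : Ideal S} {a x : S} : x ∈ col I a ↔ a * x ∈ I := Iff.rfl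

theorem le_col (I : Ideal S) (a : S) : I ≤ col I a := fun _ hx => I.mul_mem_left a hx

theorem component_mul {a : S} {e : ℕ} (ha : a.IsHomogeneous e) (c : S) (m : ℕ) :
    homogeneousComponent (m + e) (a * c) = a * homogeneousComponent m c := by
  classical
  conv_lhs => rw [← sum_homogeneousComponent c, Finset.mul_sum, map_sum]
  have hterm : ∀ i, homogeneousComponent (m + e) (a * homogeneousComponent i c) =
      if i = m then a * homogeneousComponent i c else 0 := by
    intro i
    rw [homogeneousComponent_of_mem (ha.mul (homogeneousComponent_isHomogeneous i c))]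
    by_cases h : i = m
    · rw [if_pos h, if_pos (by omega)]
    · rw [if_neg h, if_neg (by omega)]
  simp only [hterm, Finset.sum_ite_eq', Finset.mem_range]
  split_ifs with hm
  · rfl
  · rw [homogeneousComponent_eq_zero m c (by omega), mul_zero]

theorem isHomogeneous_col {I : Ideal S} (hI : I.IsHomogeneous 𝒜) {a : S} {e : ℕ} (ha : a.IsHomogeneous e) :
    (col I a).IsHomogeneous 𝒜 := by
  intro m x hx
  have h : homogeneousComponent (m + e) (a * x) ∈ I := homogeneousComponent_mem_of_mem hI hx _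
  rw [component_mul ha] at h
  rw [mem_col]
  show a * (DirectSum.decompose (homogeneousSubmodule (Fin (n + 1)) k) x m : S) ∈ I
  erw [MvPolynomial.decomposition.decompose'_apply]
  exact h

theorem isHomogeneous_sup_span {I : Ideal S} (hI : I.IsHomogeneous 𝒜) {a : S} {e : ℕ} (ha : a.IsHomogeneous e) :
    (I ⊔ Ideal.span {a}).IsHomogeneous 𝒜 :=
  hI.sup (span_isHomogeneous fun b hb => ⟨e, by rw [Set.mem_singleton_iff.1 hb]; exact ha⟩)

theorem hfun_add {I : Ideal S} (hI : I.IsHomogeneous 𝒜) {a : S} {e : ℕ} (ha : a.IsHomogeneous e)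
    (ha0 : a ≠ 0) (m : ℕ) : hfun I (m + e) = hfun (I ⊔ Ideal.span {a}) (m + e) + hfun (col I a) m := by
  classical
  let J : Submodule k S := Submodule.restrictScalars k I
  let μ : S →ₗ[k] S := LinearMap.mulLeft k a
  have hμ : Function.Injective μ := fun x y h => mul_left_cancel₀ ha0 h
  have hsup : Submodule.restrictScalars k (I ⊔ Ideal.span {a}) ⊓ 𝒜 (m + e) =
      (J ⊓ 𝒜 (m + e)) ⊔ (𝒜 m).map μ := by
    refine le_antisymm ?_ (sup_le (inf_le_inf_right _ (fun x hx => Submodule.mem_sup_left (hx : x ∈ I))) ?_)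
    · rintro x ⟨hx, hxm⟩
      obtain ⟨b, hb, z, hz, rfl⟩ := Submodule.mem_sup.1 (hx : x ∈ I ⊔ Ideal.span {a})
      obtain ⟨c, rfl⟩ := Ideal.mem_span_singleton'.1 hz
      have e' : homogeneousComponent (m + e) (b + c * a) = b + c * a :=
        (homogeneousComponent_of_mem hxm).trans (if_pos rfl)
      rw [← e', map_add]
      refine Submodule.add_mem_sup ⟨homogeneousComponent_mem_of_mem hI hb _, homogeneousComponent_mem _ _⟩
        ⟨homogeneousComponent m c, homogeneousComponent_mem _ _, ?_⟩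
      show a * homogeneousComponent m c = _
      rw [mul_comm c a, component_mul ha]
    · rintro _ ⟨c, hc, rfl⟩
      refine ⟨Submodule.mem_sup_right (Ideal.mem_span_singleton'.2 ⟨c, mul_comm c a⟩), ?_⟩
      show (a * c).IsHomogeneous (m + e)
      rw [add_comm m e]
      exact ha.mul hc
  have hinf : (J ⊓ 𝒜 (m + e)) ⊓ (𝒜 m).map μ = (Submodule.restrictScalars k (col I a) ⊓ 𝒜 m).map μ := by
    refine le_antisymm ?_ ?_
    · rintro _ ⟨⟨hJ, -⟩, c, hc, rfl⟩
      exact ⟨c, ⟨hJ, hc⟩, rfl⟩
    · rintro _ ⟨c, ⟨hcI, hc⟩, rfl⟩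
      refine ⟨⟨hcI, ?_⟩, c, hc, rfl⟩
      show (a * c).IsHomogeneous (m + e)
      rw [add_comm m e]
      exact ha.mul hc
  have hd := Submodule.finrank_sup_add_finrank_inf_eq (J ⊓ 𝒜 (m + e)) ((𝒜 m).map μ)
  rw [← hsup, hinf, LinearEquiv.finrank_eq (Submodule.equivMapOfInjective μ hμ
      (Submodule.restrictScalars k (col I a) ⊓ 𝒜 m)).symm,
    LinearEquiv.finrank_eq (Submodule.equivMapOfInjective μ hμ (𝒜 m)).symm] at hd
  have hd' : (Module.finrank k ↥(Submodule.restrictScalars k (I ⊔ Ideal.span {a}) ⊓ 𝒜 (m + e)) : ℚ) +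
      Module.finrank k ↥(Submodule.restrictScalars k (col I a) ⊓ 𝒜 m) =
      Module.finrank k ↥(J ⊓ 𝒜 (m + e)) + Module.finrank k ↥(𝒜 m) := by exact_mod_cast hd
  unfold hfun
  linarith

theorem hfun_top (m : ℕ) : hfun (⊤ : Ideal S) m = 0 := by
  have e : Submodule.restrictScalars k (⊤ : Ideal S) ⊓ 𝒜 m = 𝒜 m := inf_eq_right.2 fun x _ => trivial
  rw [hfun, e, sub_self]

/-- In a homogeneous ideal which is neither prime nor everything some homogeneous colon ideal is prime. -/
theorem exists_prime_col {I : Ideal S} (hI : I.IsHomogeneous 𝒜) (htop : I ≠ ⊤) :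
    ∃ (a : S) (e : ℕ), a.IsHomogeneous e ∧ a ∉ I ∧ (col I a).IsPrime := by
  let F : Set (Ideal S) := {J | ∃ (a : S) (e : ℕ), a.IsHomogeneous e ∧ a ∉ I ∧ J = col I a}
  have hne : F.Nonempty := ⟨_, 1, 0, isHomogeneous_one _ _,
    fun h => htop ((Ideal.eq_top_iff_one I).2 h), rfl⟩
  obtain ⟨J, ⟨a, e, ha, haI, rfl⟩, hmax⟩ := set_has_maximal_iff_noetherian.2 inferInstance F hne
  refine ⟨a, e, ha, haI, (isHomogeneous_col hI ha).isPrime_of_homogeneous_mem_or_mem ?_ ?_⟩
  · intro h
    apply haI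
    have h1 : (1 : S) ∈ col I a := h ▸ Submodule.mem_top
    rwa [mem_col, mul_one] at h1
  · rintro x y ⟨i, hx⟩ ⟨j, hy⟩ hxy
    by_cases h : x ∈ col I a
    · exact Or.inl h
    · refine Or.inr ?_
      have hle : col I a ≤ col I (a * x) := fun z hz => by
        rw [mem_col] at hz ⊢
        rw [mul_assoc, mul_comm x z, ← mul_assoc]
        exact I.mul_mem_right x hz
      have heq : col I a = col I (a * x) := by
        by_contra hne'
        exact hmax _ ⟨a * x, e + i, ha.mul hx, h, rfl⟩ (lt_of_le_of_ne hle hne')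
      rw [heq, mem_col, mul_assoc]
      exact hxy

/-- Induction on homogeneous ideals along exact sequences `0 → S/(I : a) → S/I → S/(I + (a)) → 0`. -/
theorem hom_induction {P : Ideal S → Prop} (top : P ⊤)
    (prime : ∀ p : Ideal S, p.IsPrime → p.IsHomogeneous 𝒜 → P p)
    (step : ∀ (I : Ideal S) (a : S) (e : ℕ), I.IsHomogeneous 𝒜 → a.IsHomogeneous e → a ∉ I → a ≠ 0 →
      P (I ⊔ Ideal.span {a}) → P (col I a) → P I)
    (I : Ideal S) (hI : I.IsHomogeneous 𝒜) : P I := by
  revert hI
  induction I using WellFoundedGT.induction with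
  | _ I ih =>
  intro hI
  by_cases htop : I = ⊤
  · exact htop ▸ top
  by_cases hp : I.IsPrime
  · exact prime I hp hI
  obtain ⟨a, e, ha, haI, hcp⟩ := exists_prime_col hI htop
  have hlt : I < I ⊔ Ideal.span {a} :=
    lt_of_le_of_ne le_sup_left fun h => haI (h ▸ Ideal.mem_sup_right (Ideal.mem_span_singleton_self a))
  exact step I a e hI ha haI (fun h => haI (h ▸ I.zero_mem))
    (ih _ hlt (isHomogeneous_sup_span hI ha)) (prime _ hcp (isHomogeneous_col hI ha))

end Groth.Agent.Hilb24
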