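import Mathlib.RingTheory.Length
import Mathlib.RingTheory.Localization.AtPrime.Basic
import Mathlib.Algebra.Module.LocalizedModule.Exact
import Mathlib.RingTheory.Ideal.Quotient.Operations
import Mathlib.RingTheory.SimpleModule.Basic

/-!
# Multiplicities of cyclic modules
-/

set_option autoImplicit false

universe u

namespace Groth.Agent.Hilb24

variable {R : Type u} [CommRing R]

/-- The length of `(R/I)_q` over `R_q`. -/
noncomputable def len (q : Ideal R) [q.IsPrime] (I : Ideal R) : ℕ∞ :=
  Module.length (Localization.AtPrime q) (LocalizedModule q.primeCompl (R ⧸ I))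

variable (q : Ideal R) [q.IsPrime]

theorem len_eq_zero {I : Ideal R} (h : ¬ I ≤ q) : len q I = 0 := by
  obtain ⟨a, haI, haq⟩ := SetLike.not_le_iff_exists.1 h
  rw [len, Module.length_eq_zero_iff]
  refine subsingleton_of_forall_eq 0 fun z => ?_
  induction z with
  | _ m s =>
    rw [← LocalizedModule.zero_mk s, LocalizedModule.mk_eq]
    refine ⟨⟨a, haq⟩, ?_⟩
    obtain ⟨x, rfl⟩ := Ideal.Quotient.mk_surjective m
    simp only [smul_zero, Submonoid.smul_def]
    rw [← smul_assoc, Algebra.smul_def, Ideal.Quotient.algebraMap_eq, ← map_mul,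
      Ideal.Quotient.eq_zero_iff_mem]
    exact I.mul_mem_right _ (I.mul_mem_right _ haI)

theorem len_self : len q q = 1 := by
  rw [len, Module.length_eq_one_iff, isSimpleModule_iff_toSpanSingleton_surjective]
  constructor
  · refine nontrivial_of_ne (LocalizedModule.mk (1 : R ⧸ q) 1) 0 fun h => ?_
    rw [← LocalizedModule.zero_mk (1 : q.primeCompl), LocalizedModule.mk_eq] at h
    obtain ⟨⟨u, hu⟩, h⟩ := h
    simp only [one_smul, smul_zero, Submonoid.smul_def] at h
    rw [Algebra.smul_def, mul_one, Ideal.Quotient.algebraMap_eq, Ideal.Quotient.eq_zero_iff_mem] at h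
    exact hu h
  · intro z hz w
    induction z with
    | _ m s =>
    induction w with
    | _ m' t =>
    obtain ⟨a, rfl⟩ := Ideal.Quotient.mk_surjective m
    obtain ⟨b, rfl⟩ := Ideal.Quotient.mk_surjective m'
    have ha : a ∈ q.primeCompl := fun h => hz (by
      rw [Ideal.Quotient.eq_zero_iff_mem.2 h, LocalizedModule.zero_mk])
    refine ⟨Localization.mk (b * s) (⟨a, ha⟩ * t), ?_⟩
    rw [LinearMap.toSpanSingleton_apply, LocalizedModule.mk_smul_mk, LocalizedModule.mk_eq]
    refine ⟨1, ?_⟩
    simp only [one_smul, Submonoid.smul_def, Submonoid.coe_mul]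
    simp only [Algebra.smul_def, Ideal.Quotient.algebraMap_eq, ← map_mul]
    congr 1
    ring

/-- Additivity along `0 → R/(I : a) → R/I → R/(I + (a)) → 0`. -/
theorem len_add (I : Ideal R) (a : R) :
    len q I = len q (Submodule.comap (LinearMap.mulLeft R a) I) + len q (I ⊔ Ideal.span {a}) := by
  let C : Ideal R := Submodule.comap (LinearMap.mulLeft R a) I
  let f : R ⧸ C →ₗ[R] R ⧸ I := Submodule.mapQ C I (LinearMap.mulLeft R a) le_rfl
  let g : R ⧸ I →ₗ[R] R ⧸ (I ⊔ Ideal.span {a}) := Submodule.mapQ I (I ⊔ Ideal.span {a}) LinearMap.id le_sup_left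
  have hf : Function.Injective f := by
    rw [injective_iff_map_eq_zero]
    intro x hx
    obtain ⟨x, rfl⟩ := Submodule.Quotient.mk_surjective C x
    rw [Submodule.mapQ_apply, Submodule.Quotient.mk_eq_zero] at hx
    exact (Submodule.Quotient.mk_eq_zero C).2 hx
  have hg : Function.Surjective g := fun y => by
    obtain ⟨y, rfl⟩ := Submodule.Quotient.mk_surjective _ y
    exact ⟨Submodule.Quotient.mk y, rfl⟩
  have he : Function.Exact f g := by
    intro y
    obtain ⟨y, rfl⟩ := Submodule.Quotient.mk_surjective I y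
    rw [Submodule.mapQ_apply, Submodule.Quotient.mk_eq_zero, LinearMap.id_apply]
    constructor
    · intro hy
      obtain ⟨b, hb, c, hc, rfl⟩ := Submodule.mem_sup.1 hy
      obtain ⟨z, rfl⟩ := Ideal.mem_span_singleton'.1 hc
      refine ⟨Submodule.Quotient.mk z, ?_⟩
      rw [Submodule.mapQ_apply, Submodule.Quotient.eq, LinearMap.mulLeft_apply]
      have : a * z - (b + z * a) = -b := by ring
      rw [this]
      exact neg_mem hb
    · rintro ⟨x, hx⟩
      obtain ⟨x, rfl⟩ := Submodule.Quotient.mk_surjective C x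
      rw [Submodule.mapQ_apply, Submodule.Quotient.eq, LinearMap.mulLeft_apply] at hx
      have : y = a * x - (a * x - y) := by ring
      rw [this]
      exact sub_mem (Ideal.mem_sup_right (Ideal.mem_span_singleton'.2 ⟨x, mul_comm x a⟩))
        (Ideal.mem_sup_left hx)
  let S := q.primeCompl
  exact Module.length_eq_add_of_exact (R := Localization.AtPrime q) (LocalizedModule.map S f)
    (LocalizedModule.map S g) (LocalizedModule.map_injective S f hf) (LocalizedModule.map_surjective S g hg)
    (LocalizedModule.map_exact S f g he)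

theorem len_top : len q (⊤ : Ideal R) = 0 :=
  len_eq_zero q fun h => Ideal.IsPrime.ne_top ‹_› (top_le_iff.1 h)

end Groth.Agent.Hilb24
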