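import Mathlib.Algebra.Polynomial.Coeff
import Mathlib.Algebra.Polynomial.Degree.Lemmas
import Mathlib.Algebra.Polynomial.Roots
import Mathlib.Tactic.Ring
import Mathlib.Tactic.LinearCombination

/-!
# Differences of shifts of polynomials
-/

set_option autoImplicit false

open Polynomial

namespace Groth.Agent.Hilb24

variable {K : Type*} [Field K] [CharZero K]

theorem coeff_comp_X_add_C (P : K[X]) (a : K) (j : ℕ) :
    (P.comp (X + C a)).coeff j =
      ∑ i ∈ Finset.range (P.natDegree + 1), P.coeff i * (a ^ (i - j) * (i.choose j : K)) := by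
  rw [Polynomial.comp, eval₂_eq_sum_range, finsetSum_coeff]
  refine Finset.sum_congr rfl fun i _ => ?_
  rw [coeff_C_mul, coeff_X_add_C_pow]

/-- Degree and leading coefficient of `P(X) - P(X + a)`. -/
theorem natDegree_leadingCoeff_sub_shift (P : K[X]) {r : ℕ} (hr : P.natDegree = r + 1) {a : K} (ha : a ≠ 0) :
    (P - P.comp (X + C a)).natDegree = r ∧
      (P - P.comp (X + C a)).leadingCoeff = -((r + 1 : ℕ) : K) * a * P.leadingCoeff := by
  have htop : ∀ j, r + 1 ≤ j → (P - P.comp (X + C a)).coeff j = 0 := by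
    intro j hj
    rw [coeff_sub, coeff_comp_X_add_C, hr]
    rcases hj.eq_or_lt with rfl | hlt
    · rw [Finset.sum_eq_single (r + 1)]
      · simp
      · intro i hi hne
        rw [Nat.choose_eq_zero_of_lt (by have := Finset.mem_range.1 hi; omega)]
        simp
      · simp
    · rw [coeff_eq_zero_of_natDegree_lt (hr ▸ hlt), Finset.sum_eq_zero, sub_zero]
      intro i hi
      rw [Nat.choose_eq_zero_of_lt (by have := Finset.mem_range.1 hi; omega)]
      simp
  have hr' : (P - P.comp (X + C a)).coeff r = -((r + 1 : ℕ) : K) * a * P.leadingCoeff := by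
    rw [coeff_sub, coeff_comp_X_add_C, hr, Finset.sum_range_succ, Finset.sum_eq_single r]
    · rw [Polynomial.leadingCoeff, hr]
      simp only [Nat.sub_self, pow_zero, Nat.choose_self, Nat.cast_one, mul_one, Nat.add_sub_cancel_left,
        pow_one, Nat.choose_succ_self_right]
      ring
    · intro i hi hne
      rw [Nat.choose_eq_zero_of_lt (by have := Finset.mem_range.1 hi; omega)]
      simp
    · simp
  have hne : (P - P.comp (X + C a)).coeff r ≠ 0 := by
    rw [hr']
    have hP : P ≠ 0 := fun h => by simp [h] at hr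
    exact mul_ne_zero (mul_ne_zero (neg_ne_zero.2 (Nat.cast_ne_zero.2 (Nat.succ_ne_zero r))) ha)
      (leadingCoeff_ne_zero.2 hP)
  have hdeg : (P - P.comp (X + C a)).natDegree = r :=
    le_antisymm (natDegree_le_iff_coeff_eq_zero.2 fun j hj => htop j hj) (le_natDegree_of_ne_zero hne)
  exact ⟨hdeg, by rw [Polynomial.leadingCoeff, hdeg, hr']⟩

omit [CharZero K] in
theorem eq_of_eventually_eval_eq [CharZero K] {P Q : K[X]} (h : ∃ m₀ : ℕ, ∀ m : ℕ, m₀ ≤ m → P.eval (m : K) = Q.eval (m : K)) :
    P = Q := by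
  obtain ⟨m₀, h⟩ := h
  exact eq_of_infinite_eval_eq P Q (Set.infinite_of_injective_forall_mem (f := fun m : ℕ => ((m₀ + m : ℕ) : K))
    (Nat.cast_injective.comp (add_right_injective m₀)) fun m => h _ (Nat.le_add_right m₀ m))

end Groth.Agent.Hilb24
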