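import Mathlib.Algebra.Polynomial.Degree.TrailingDegree
import Groth.Agent.Hilb24.Shift
import Groth.Agent.Hilb24.Graded
import Groth.Agent.Hilb24.Length

/-!
# Degree and leading coefficient of Hilbert polynomials
-/

set_option autoImplicit false

universe u

open Groth.Agent.DimLib.PN Polynomial

namespace Groth.Agent.Hilb24

variable {n : ℕ} {k : Type u} [Field k]

local notation "S" => MvPolynomial (Fin (n + 1)) k
local notation "𝒜" => CohB1.polyGrading n k

/-- Coefficients vanish from `s` on. -/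
def Bd (s : ℕ) (P : ℚ[X]) : Prop := ∀ j, s ≤ j → P.coeff j = 0

theorem Bd.mono {s t : ℕ} {P : ℚ[X]} (h : Bd s P) (hst : s ≤ t) : Bd t P := fun j hj => h j (hst.trans hj)

theorem Bd.add {s : ℕ} {P Q : ℚ[X]} (hP : Bd s P) (hQ : Bd s Q) : Bd s (P + Q) := fun j hj => by
  rw [coeff_add, hP j hj, hQ j hj, add_zero]

theorem coeff_shift_of_bd {s : ℕ} {P : ℚ[X]} (hP : Bd s P) (a : ℚ) {j : ℕ} (hj : s ≤ j + 1) :
    (P.comp (X + C a)).coeff j = P.coeff j := by
  rw [coeff_comp_X_add_C, Finset.sum_eq_single j]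
  · simp
  · intro i _ hne
    rcases lt_or_gt_of_ne hne with h | h
    · rw [Nat.choose_eq_zero_of_lt h]; simp
    · rw [hP i (by omega), zero_mul]
  · intro h
    rw [coeff_eq_zero_of_natDegree_lt (by rw [Finset.mem_range] at h; omega), zero_mul]

theorem Bd.shift {s : ℕ} {P : ℚ[X]} (hP : Bd s P) (a : ℚ) : Bd s (P.comp (X + C a)) := fun j hj => by
  rw [coeff_shift_of_bd hP a (by omega), hP j hj]

/-- A polynomial with prescribed first difference. -/
theorem exists_antidiff (P : ℚ[X]) : ∃ Q : ℚ[X], Q - Q.comp (X + C (-1)) = P := by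
  suffices ∀ (N : ℕ) (P : ℚ[X]), Bd N P → ∃ Q : ℚ[X], Q - Q.comp (X + C (-1)) = P from
    this (P.natDegree + 1) P fun j hj => coeff_eq_zero_of_natDegree_lt (by omega)
  intro N
  induction N with
  | zero => exact fun P hP => ⟨0, by simpa using (Polynomial.ext fun j => (hP j (Nat.zero_le j)).trans (coeff_zero j).symm : P = 0).symm⟩
  | succ N ih =>
    intro P hP
    let M : ℚ[X] := C (P.coeff N / (N + 1)) * X ^ (N + 1)
    by_cases hc : P.coeff N = 0
    · refine ih P fun j hj => ?_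
      rcases hj.eq_or_lt with rfl | h
      exacts [hc, hP j h]
    have hne : P.coeff N / ((N : ℚ) + 1) ≠ 0 := div_ne_zero hc (by positivity)
    have hMd : M.natDegree = N + 1 := natDegree_C_mul_X_pow _ _ hne
    obtain ⟨h1, h2⟩ := natDegree_leadingCoeff_sub_shift M hMd (a := (-1 : ℚ)) (by norm_num)
    obtain ⟨Q, hQ⟩ := ih (P - (M - M.comp (X + C (-1)))) fun j hj => by
      rcases hj.eq_or_lt with rfl | h
      · rw [coeff_sub]
        have : (M - M.comp (X + C (-1))).coeff N = P.coeff N := by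
          rw [Polynomial.leadingCoeff, h1] at h2
          rw [h2, show M.leadingCoeff = P.coeff N / ((N : ℚ) + 1) from leadingCoeff_C_mul_X_pow _ _]
          push_cast
          field_simp
        rw [this, sub_self]
      · rw [coeff_sub, hP j h, coeff_eq_zero_of_natDegree_lt (by omega), sub_zero]
    exact ⟨Q + M, by rw [add_comp, ← sub_eq_zero, ← sub_eq_zero.2 hQ]; ring⟩

/-- `P` is the Hilbert polynomial of `S/I`. -/
def IsHilb (I : Ideal S) (P : ℚ[X]) : Prop := ∃ m₀ : ℕ, ∀ m : ℕ, m₀ ≤ m → P.eval (m : ℚ) = hfun I m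

theorem IsHilb.unique {I : Ideal S} {P Q : ℚ[X]} (hP : IsHilb I P) (hQ : IsHilb I Q) : P = Q := by
  obtain ⟨a, ha⟩ := hP
  obtain ⟨b, hb⟩ := hQ
  exact eq_of_eventually_eval_eq ⟨a + b, fun m hm => (ha m (by omega)).trans (hb m (by omega)).symm⟩

open Classical in
/-- The Hilbert polynomial. -/
noncomputable def hilb (I : Ideal S) : ℚ[X] := if h : ∃ P, IsHilb I P then h.choose else 0

theorem IsHilb.eq_hilb {I : Ideal S} {P : ℚ[X]} (hP : IsHilb I P) : hilb I = P := by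
  rw [hilb, dif_pos ⟨P, hP⟩]
  exact (Exists.choose_spec (⟨P, hP⟩ : ∃ P, IsHilb I P)).unique hP

/-- What we know about a homogeneous prime. -/
def PrimeData (p : Ideal S) : Prop :=
  ∃ P : ℚ[X], IsHilb p P ∧ Bd (cdim p) P ∧ (0 < cdim p → 0 < P.coeff (cdim p - 1))

/-- What we prove about homogeneous ideals. -/
def Formula (I : Ideal S) : Prop :=
  ∀ s : ℕ, (∀ q : Ideal S, q.IsPrime → q.IsHomogeneous 𝒜 → I ≤ q → cdim q ≤ s) →
    ∃ P : ℚ[X], IsHilb I P ∧ Bd s P ∧
      ∀ T : Finset (PrimeSpectrum S), (∀ q ∈ T, q.asIdeal.IsHomogeneous 𝒜 ∧ cdim q.asIdeal = s) →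
        (∀ q : PrimeSpectrum S, q.asIdeal.IsHomogeneous 𝒜 → I ≤ q.asIdeal → cdim q.asIdeal = s → q ∈ T) →
        (∀ q ∈ T, len q.asIdeal I ≠ ⊤) ∧
          P.coeff (s - 1) = ∑ q ∈ T, ((len q.asIdeal I).toNat : ℚ) * (hilb q.asIdeal).coeff (s - 1)

theorem formula_of_primeData (D : ℕ)
    (hdata : ∀ p : Ideal S, p.IsPrime → p.IsHomogeneous 𝒜 → cdim p ≤ D → PrimeData p)
    {I : Ideal S} (hI : I.IsHomogeneous 𝒜)
    (hD : ∀ q : Ideal S, q.IsPrime → q.IsHomogeneous 𝒜 → I ≤ q → cdim q ≤ D) : Formula I := by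
  classical
  revert hD
  refine hom_induction (P := fun I => (∀ q : Ideal S, q.IsPrime → q.IsHomogeneous 𝒜 → I ≤ q → cdim q ≤ D) →
    Formula I) ?_ ?_ ?_ I hI
  · intro _ s _
    refine ⟨0, ⟨0, fun m _ => by rw [eval_zero, hfun_top]⟩, fun j _ => coeff_zero j, fun T _ _ => ?_⟩
    have h0 : ∀ q : PrimeSpectrum S, len q.asIdeal (⊤ : Ideal S) = 0 := fun q => len_top _
    exact ⟨fun q _ => by simp [h0], by simp [h0]⟩
  · intro p hp hph hD s hs
    obtain ⟨P, hP, hb, -⟩ := hdata p hp hph (hD p hp hph le_rfl)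
    have hps := hs p hp hph le_rfl
    refine ⟨P, hP, hb.mono hps, fun T hT hall => ?_⟩
    have hlen : ∀ q ∈ T, len q.asIdeal p = if q.asIdeal = p then 1 else 0 := by
      intro q hq
      split_ifs with h
      · subst h; exact len_self q.asIdeal
      · refine len_eq_zero q.asIdeal fun hle => ?_
        have := cdim_lt hp q.isPrime hle fun e => h e.symm
        have := (hT q hq).2
        omega
    refine ⟨fun q hq => by rw [hlen q hq]; split_ifs <;> simp, ?_⟩
    rcases hps.eq_or_lt with he | hlt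
    · have hpT : (⟨p, hp⟩ : PrimeSpectrum S) ∈ T := hall ⟨p, hp⟩ hph le_rfl he
      rw [Finset.sum_eq_single (⟨p, hp⟩ : PrimeSpectrum S)]
      · rw [hlen _ hpT, if_pos rfl, hP.eq_hilb]
        simp
      · intro q hq hne
        rw [hlen q hq, if_neg fun e => hne (PrimeSpectrum.ext e)]
        simp
      · exact fun h => absurd hpT h
    · rw [hb (s - 1) (by omega), Finset.sum_eq_zero]
      intro q hq
      rw [hlen q hq, if_neg]
      · simp
      · intro e
        have := (hT q hq).2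
        rw [e] at this
        omega
  · intro I a e hI ha haI ha0 ih1 ih2 hD s hs
    obtain ⟨P₁, hP₁, hb₁, hc₁⟩ := ih1 (fun q h1 h2 h3 => hD q h1 h2 (le_sup_left.trans h3)) s
      (fun q h1 h2 h3 => hs q h1 h2 (le_sup_left.trans h3))
    obtain ⟨P₂, hP₂, hb₂, hc₂⟩ := ih2 (fun q h1 h2 h3 => hD q h1 h2 ((le_col I a).trans h3)) s
      (fun q h1 h2 h3 => hs q h1 h2 ((le_col I a).trans h3))
    refine ⟨P₁ + P₂.comp (X + C (-(e : ℚ))), ?_, hb₁.add (hb₂.shift _), fun T hT hall => ?_⟩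
    · obtain ⟨m₁, h₁⟩ := hP₁
      obtain ⟨m₂, h₂⟩ := hP₂
      refine ⟨m₁ + m₂ + e, fun m hm => ?_⟩
      obtain ⟨m', rfl⟩ : ∃ m', m = m' + e := ⟨m - e, by omega⟩
      rw [hfun_add hI ha ha0, ← h₁ _ (by omega), ← h₂ m' (by omega)]
      simp
    · obtain ⟨hf₁, hs₁⟩ := hc₁ T hT fun q h1 h2 h3 => hall q h1 (le_sup_left.trans h2) h3
      obtain ⟨hf₂, hs₂⟩ := hc₂ T hT fun q h1 h2 h3 => hall q h1 ((le_col I a).trans h2) h3
      have hadd : ∀ q : PrimeSpectrum S,
          len q.asIdeal I = len q.asIdeal (col I a) + len q.asIdeal (I ⊔ Ideal.span {a}) := fun q =>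
        len_add q.asIdeal I a
      refine ⟨fun q hq => by rw [hadd]; exact WithTop.add_ne_top.2 ⟨hf₂ q hq, hf₁ q hq⟩, ?_⟩
      rw [coeff_add, coeff_shift_of_bd hb₂ _ (by omega), hs₁, hs₂, ← Finset.sum_add_distrib]
      refine Finset.sum_congr rfl fun q hq => ?_
      rw [hadd, ENat.toNat_add (hf₂ q hq) (hf₁ q hq)]
      push_cast
      ring

/-- The finitely many homogeneous primes over `I` of top dimension. -/
theorem exists_top_finset (I : Ideal S) (hI : I.IsHomogeneous 𝒜) (s : ℕ)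
    (hs : ∀ q : Ideal S, q.IsPrime → q.IsHomogeneous 𝒜 → I ≤ q → cdim q ≤ s) :
    ∃ T : Finset (PrimeSpectrum S),
      (∀ q ∈ T, q.asIdeal.IsHomogeneous 𝒜 ∧ cdim q.asIdeal = s) ∧
      (∀ q : PrimeSpectrum S, q.asIdeal.IsHomogeneous 𝒜 → I ≤ q.asIdeal → cdim q.asIdeal = s → q ∈ T) ∧
      ∀ q ∈ T, q.asIdeal ∈ I.minimalPrimes := by
  have hfin : {q : PrimeSpectrum S | q.asIdeal ∈ I.minimalPrimes ∧ cdim q.asIdeal = s}.Finite :=
    (I.finite_minimalPrimes_of_isNoetherianRing S).preimage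
      (fun a _ b _ h => PrimeSpectrum.ext h) |>.subset fun q hq => hq.1
  refine ⟨hfin.toFinset, fun q hq => ?_, fun q _ hIq hqs => ?_, fun q hq => (hfin.mem_toFinset.1 hq).1⟩
  · obtain ⟨h1, h2⟩ := hfin.mem_toFinset.1 hq
    exact ⟨isHomogeneous_of_mem_minimalPrimes hI h1, h2⟩
  · refine hfin.mem_toFinset.2 ⟨?_, hqs⟩
    have := q.isPrime
    obtain ⟨Q, hQ, hQq⟩ := Ideal.exists_minimalPrimes_le hIq
    have h1 := hs Q hQ.1.1 (isHomogeneous_of_mem_minimalPrimes hI hQ) hQ.1.2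
    by_cases he : Q = q.asIdeal
    · exact he ▸ hQ
    · have := cdim_lt hQ.1.1 q.isPrime hQq he
      omega

theorem len_ne_zero {q : Ideal S} [q.IsPrime] {I : Ideal S} (h : I ≤ q) : len q I ≠ 0 := by
  intro h0
  rw [len, Module.length_eq_zero_iff] at h0
  have := Subsingleton.elim (LocalizedModule.mk (1 : S ⧸ I) (1 : q.primeCompl)) 0
  rw [← LocalizedModule.zero_mk (1 : q.primeCompl), LocalizedModule.mk_eq] at this
  obtain ⟨⟨u, hu⟩, hu'⟩ := this
  simp only [one_smul, smul_zero, Submonoid.smul_def] at hu'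
  have hu'' : Ideal.Quotient.mk I u = 0 := by
    rw [← hu']
    exact congrArg (Ideal.Quotient.mk I) (mul_one u).symm
  exact hu (h (Ideal.Quotient.eq_zero_iff_mem.1 hu''))

/-- The top coefficient is positive when a top-dimensional prime contains the ideal. -/
theorem sum_pos {D : ℕ} (hdata : ∀ p : Ideal S, p.IsPrime → p.IsHomogeneous 𝒜 → cdim p ≤ D → PrimeData p)
    {I : Ideal S} {s : ℕ} (hs : s ≤ D) (h0 : 0 < s) {T : Finset (PrimeSpectrum S)}
    (hT : ∀ q ∈ T, q.asIdeal.IsHomogeneous 𝒜 ∧ cdim q.asIdeal = s)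
    (hfin : ∀ q ∈ T, len q.asIdeal I ≠ ⊤) {q₀ : PrimeSpectrum S} (hq₀ : q₀ ∈ T) (hle : I ≤ q₀.asIdeal) :
    0 < ∑ q ∈ T, ((len q.asIdeal I).toNat : ℚ) * (hilb q.asIdeal).coeff (s - 1) := by
  have hpos : ∀ q ∈ T, 0 < (hilb q.asIdeal).coeff (s - 1) := by
    intro q hq
    obtain ⟨hh, hc⟩ := hT q hq
    obtain ⟨P, hP, -, hlc⟩ := hdata _ q.isPrime hh (hc ▸ hs)
    rw [hP.eq_hilb]
    rw [hc] at hlc
    exact hlc h0
  refine Finset.sum_pos' (fun q hq => mul_nonneg (Nat.cast_nonneg _) (hpos q hq).le) ⟨q₀, hq₀, ?_⟩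
  refine mul_pos (Nat.cast_pos.2 (Nat.pos_of_ne_zero fun h => ?_)) (hpos q₀ hq₀)
  rcases ENat.toNat_eq_zero.1 h with h | h
  exacts [len_ne_zero hle h, hfin q₀ hq₀ h]

theorem primeData (p : Ideal S) (hp : p.IsPrime) (hph : p.IsHomogeneous 𝒜) : PrimeData p := by
  suffices ∀ D, ∀ p : Ideal S, p.IsPrime → p.IsHomogeneous 𝒜 → cdim p = D → PrimeData p from
    this _ p hp hph rfl
  intro D
  induction D using Nat.strong_induction_on with
  | _ D ih =>
  intro p hp hph hpD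
  rcases Nat.eq_zero_or_pos D with rfl | hDpos
  · have hm : p = m0 n k := by
      by_contra h
      have := cdim_pos hp hph h
      omega
    refine ⟨0, ⟨1, fun m hm1 => ?_⟩, fun j _ => coeff_zero j, fun h => absurd h (by omega)⟩
    have e : Submodule.restrictScalars k p ⊓ 𝒜 m = 𝒜 m :=
      inf_eq_right.2 fun x hx => hm ▸ mem_m0_of_homogeneous hx hm1
    rw [eval_zero, hfun, e, sub_self]
  have hne : p ≠ m0 n k := fun e => by rw [e, cdim_m0] at hpD; omega
  obtain ⟨l, hl⟩ := exists_X_notMem hp hph hne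
  let x : S := MvPolynomial.X l
  have hx : x.IsHomogeneous 1 := MvPolynomial.isHomogeneous_X k l
  let J : Ideal S := p ⊔ Ideal.span {x}
  have hJ : J.IsHomogeneous 𝒜 := isHomogeneous_sup_span hph hx
  have hcol : col p x = p := le_antisymm
    (fun z hz => (hp.mem_or_mem (mem_col.1 hz)).resolve_left hl) (le_col p x)
  have hdata : ∀ q : Ideal S, q.IsPrime → q.IsHomogeneous 𝒜 → cdim q ≤ D - 1 → PrimeData q :=
    fun q h1 h2 h3 => ih _ (by omega) q h1 h2 rfl
  have hJD : ∀ q : Ideal S, q.IsPrime → q.IsHomogeneous 𝒜 → J ≤ q → cdim q ≤ D - 1 := by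
    intro q h1 _ h3
    have := cdim_lt hp h1 (le_sup_left.trans h3)
      fun e => hl (e ▸ h3 (Ideal.mem_sup_right (Ideal.mem_span_singleton_self x)))
    omega
  obtain ⟨PJ, hPJ, hbJ, hcJ⟩ := formula_of_primeData (D - 1) hdata hJ hJD (D - 1) hJD
  obtain ⟨Q, hQ⟩ := exists_antidiff PJ
  obtain ⟨mJ, hmJ⟩ := hPJ
  let c : ℚ := hfun p mJ - Q.eval (mJ : ℚ)
  have hval : ∀ i, hfun p (mJ + i) = Q.eval ((mJ + i : ℕ) : ℚ) + c := by
    intro i
    induction i with
    | zero => simp [c]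
    | succ i hi =>
      have h1 := hfun_add hph hx (fun e => hl (show x ∈ p from e ▸ p.zero_mem)) (mJ + i)
      rw [hcol] at h1
      have h2 := congrArg (Polynomial.eval ((mJ + i + 1 : ℕ) : ℚ)) hQ
      rw [eval_sub, eval_comp, hmJ (mJ + i + 1) (by omega)] at h2
      rw [← add_assoc, h1, hi, ← h2]
      simp only [eval_add, eval_X, eval_C, Nat.cast_add, Nat.cast_one, add_neg_cancel_right]
      ring
  have hP : IsHilb p (Q + C c) := ⟨mJ, fun m hm => by
    obtain ⟨i, rfl⟩ := Nat.exists_eq_add_of_le hm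
    rw [eval_add, eval_C, hval i]⟩
  refine ⟨Q + C c, hP, ?_⟩
  rw [hpD]
  by_cases hD1 : D = 1
  · subst hD1
    have hPJ0 : PJ = 0 := Polynomial.ext fun j => (hbJ j (Nat.zero_le j)).trans (coeff_zero j).symm
    rw [hPJ0] at hQ
    have hQ0 : Q.natDegree = 0 := by
      by_contra h
      obtain ⟨r, hr⟩ := Nat.exists_eq_succ_of_ne_zero h
      have hQne : Q ≠ 0 := fun e => by simp [e] at h
      have h1 := (natDegree_leadingCoeff_sub_shift Q hr (a := (-1 : ℚ)) (by norm_num)).2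
      rw [hQ, leadingCoeff_zero] at h1
      rw [mul_neg, mul_one, neg_neg] at h1
      exact mul_ne_zero (Nat.cast_ne_zero.2 (Nat.succ_ne_zero r)) (leadingCoeff_ne_zero.2 hQne) h1.symm
    refine ⟨fun j hj => coeff_eq_zero_of_natDegree_lt (lt_of_le_of_lt (natDegree_add_le _ _) ?_), fun _ => ?_⟩
    · simp [hQ0]; omega
    · obtain ⟨m₀, hm₀⟩ := hP
      have hev := hm₀ (m₀ + mJ + 1) (by omega)
      rw [eq_C_of_natDegree_eq_zero (p := Q + C c) (by simpa using hQ0), eval_C] at hev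
      show 0 < (Q + C c).coeff 0
      rw [hev, hfun, sub_pos, Nat.cast_lt]
      refine Submodule.finrank_lt_finrank_of_lt (lt_of_le_of_ne inf_le_right fun e => hl ?_)
      have hmem : x ^ (m₀ + mJ + 1) ∈ 𝒜 (m₀ + mJ + 1) := by
        have := hx.pow (m₀ + mJ + 1)
        rwa [one_mul] at this
      rw [← e] at hmem
      exact hp.mem_of_pow_mem _ hmem.1
  obtain ⟨T, hT, hall, -⟩ := exists_top_finset J hJ (D - 1) hJD
  obtain ⟨hfin, hsum⟩ := hcJ T hT hall
  have hxm : x ∈ m0 n k := X_mem_m0 l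
  have := m0_isPrime (n := n) (k := k)
  obtain ⟨q, hq, -⟩ := Ideal.exists_minimalPrimes_le (I := J) (J := m0 n k)
    (sup_le (le_m0 hp hph) ((Ideal.span_singleton_le_iff_mem _).2 hxm))
  have hqh := isHomogeneous_of_mem_minimalPrimes hJ hq
  have hqD : cdim q = D - 1 := by
    have h1 := cdim_le_add hp {x} (Q := q) (by rwa [Finset.coe_singleton])
    have h2 := hJD q hq.1.1 hqh hq.1.2
    rw [Finset.card_singleton] at h1
    omega
  have hpos := sum_pos hdata le_rfl (by omega) hT hfin (hall ⟨q, hq.1.1⟩ hqh hq.1.2 hqD) hq.1.2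
  rw [← hsum] at hpos
  obtain ⟨r, rfl⟩ : ∃ r, D = r + 2 := ⟨D - 2, by omega⟩
  simp only [show r + 2 - 1 = r + 1 from rfl, Nat.add_sub_cancel] at hpos hbJ
  have hPJd : PJ.natDegree = r := le_antisymm
    (natDegree_le_iff_coeff_eq_zero.2 fun j hj => hbJ j (by omega)) (le_natDegree_of_ne_zero hpos.ne')
  have hQd : Q.natDegree ≠ 0 := by
    intro h
    rw [eq_C_of_natDegree_eq_zero h, C_comp, sub_self] at hQ
    rw [← hQ, coeff_zero] at hpos
    exact lt_irrefl _ hpos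
  obtain ⟨r', hr'⟩ := Nat.exists_eq_succ_of_ne_zero hQd
  obtain ⟨h1, h2⟩ := natDegree_leadingCoeff_sub_shift Q hr' (a := (-1 : ℚ)) (by norm_num)
  rw [hQ, hPJd] at h1
  subst h1
  rw [hQ, Polynomial.leadingCoeff, hPJd, Polynomial.leadingCoeff, hr'] at h2
  refine ⟨fun j hj => ?_, fun _ => ?_⟩
  · rw [coeff_add, coeff_C, if_neg (by omega), coeff_eq_zero_of_natDegree_lt (by omega), add_zero]
  · show 0 < (Q + C c).coeff (r + 1)
    rw [coeff_add, coeff_C, if_neg (by omega), add_zero]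
    rw [h2] at hpos
    simp only [mul_neg, mul_one, neg_neg] at hpos
    exact (pos_iff_pos_of_mul_pos hpos).1 (by positivity)

theorem formula {I : Ideal S} (hI : I.IsHomogeneous 𝒜) : Formula I :=
  formula_of_primeData (n + 1) (fun p h1 h2 _ => primeData p h1 h2) hI fun q h1 _ _ => by
    have := cdim_le (p := (⊥ : Ideal S)) Ideal.isPrime_bot h1 bot_le
    rwa [cdim_bot'] at this
where
  cdim_bot' : cdim (⊥ : Ideal S) = n + 1 := by
    have h := cdim_eq (n := n) (k := k) (p := ⊥) Ideal.isPrime_bot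
    rw [ringKrullDim_eq_of_ringEquiv (RingEquiv.quotientBot S), MvPolynomial.ringKrullDim_of_isNoetherianRing,
      ringKrullDim_eq_zero_of_field, Nat.card_eq_fintype_card, Fintype.card_fin, zero_add] at h
    exact_mod_cast h.symm

/-- The Hilbert polynomial has degree `dim - 1` and its leading coefficient is the sum over the top primes. -/
theorem main {I : Ideal S} (hI : I.IsHomogeneous 𝒜) {P : ℚ[X]} (hP : IsHilb I P) {D : ℕ}
    (hD : ∀ q : Ideal S, q.IsPrime → q.IsHomogeneous 𝒜 → I ≤ q → cdim q ≤ D)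
    (hex : ∃ q : Ideal S, q.IsPrime ∧ q.IsHomogeneous 𝒜 ∧ I ≤ q ∧ cdim q = D) :
    P.natDegree = D - 1 ∧ (P = 0 ↔ D = 0) ∧
      ∀ T : Finset (PrimeSpectrum S), (∀ q ∈ T, q.asIdeal.IsHomogeneous 𝒜 ∧ cdim q.asIdeal = D) →
        (∀ q : PrimeSpectrum S, q.asIdeal.IsHomogeneous 𝒜 → I ≤ q.asIdeal → cdim q.asIdeal = D → q ∈ T) →
        P.leadingCoeff = ∑ q ∈ T, ((len q.asIdeal I).toNat : ℚ) * (hilb q.asIdeal).coeff (D - 1) := by
  obtain ⟨P', hP', hb, hc⟩ := formula hI D hD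
  obtain rfl := hP'.unique hP
  rcases Nat.eq_zero_or_pos D with rfl | hD0
  · have h0 : P' = 0 := Polynomial.ext fun j => (hb j (Nat.zero_le j)).trans (coeff_zero j).symm
    refine ⟨by rw [h0, natDegree_zero], iff_of_true h0 rfl, fun T hT hall => ?_⟩
    rw [← (hc T hT hall).2, h0, leadingCoeff_zero, coeff_zero]
  obtain ⟨q, hq, hqh, hIq, hqD⟩ := hex
  obtain ⟨T₀, hT₀, hall₀, -⟩ := exists_top_finset I hI D hD
  obtain ⟨hfin, hsum⟩ := hc T₀ hT₀ hall₀
  have hpos := sum_pos (D := D) (fun p h1 h2 _ => primeData p h1 h2) le_rfl hD0 hT₀ hfin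
    (hall₀ ⟨q, hq⟩ hqh hIq hqD) hIq
  rw [← hsum] at hpos
  have hd : P'.natDegree = D - 1 := le_antisymm
    (natDegree_le_iff_coeff_eq_zero.2 fun j hj => hb j (by omega)) (le_natDegree_of_ne_zero hpos.ne')
  refine ⟨hd, iff_of_false (fun h => by simp [h] at hpos) hD0.ne', fun T hT hall => ?_⟩
  rw [Polynomial.leadingCoeff, hd]
  exact (hc T hT hall).2

theorem hilb_prime {p : Ideal S} (hp : p.IsPrime) (hph : p.IsHomogeneous 𝒜) {P : ℚ[X]} (hP : IsHilb p P) :
    P.natDegree = cdim p - 1 ∧ (P = 0 ↔ cdim p = 0) :=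
  let h := main hph hP (fun _ h1 _ h3 => cdim_le hp h1 h3) ⟨p, hp, hph, le_rfl, rfl⟩
  ⟨h.1, h.2.1⟩

end Groth.Agent.Hilb24
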