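import Mathlib.RingTheory.KrullDimension.NonZeroDivisors
import Groth.Agent.Hilb24.Poly

/-!
# Dimension and Hilbert polynomials
-/

set_option autoImplicit false

universe u

open Groth.Agent.DimLib.PN Polynomial

namespace Groth.Agent.Hilb24

variable {n : ℕ} {k : Type u} [Field k]

local notation "S" => MvPolynomial (Fin (n + 1)) k
local notation "𝒜" => CohB1.polyGrading n k

theorem exists_max_cdim {I : Ideal S} (hI : I.IsHomogeneous 𝒜) (htop : I ≠ ⊤) :
    ∃ D : ℕ, (∀ q : Ideal S, q.IsPrime → q.IsHomogeneous 𝒜 → I ≤ q → cdim q ≤ D) ∧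
      (∃ q : Ideal S, q.IsPrime ∧ q.IsHomogeneous 𝒜 ∧ I ≤ q ∧ cdim q = D) ∧
      ringKrullDim (S ⧸ I) = (D : WithBot ℕ∞) := by
  obtain ⟨Q, hQ, hmax⟩ := Set.exists_max_image I.minimalPrimes cdim
    (I.finite_minimalPrimes_of_isNoetherianRing S)
    (let ⟨m, hm, hle⟩ := Ideal.exists_le_maximal I htop
     have := hm.isPrime
     let ⟨Q, hQ, _⟩ := Ideal.exists_minimalPrimes_le hle
     ⟨Q, hQ⟩)
  have hall : ∀ q : Ideal S, q.IsPrime → I ≤ q → ∃ M ∈ I.minimalPrimes, M ≤ q ∧ cdim q ≤ cdim Q := by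
    intro q hq hIq
    obtain ⟨M, hM, hMq⟩ := Ideal.exists_minimalPrimes_le hIq
    exact ⟨M, hM, hMq, (cdim_le hM.1.1 hq hMq).trans (hmax M hM)⟩
  refine ⟨cdim Q, fun q hq _ hIq => (hall q hq hIq).choose_spec.2.2,
    ⟨Q, hQ.1.1, isHomogeneous_of_mem_minimalPrimes hI hQ, hQ.1.2, rfl⟩, le_antisymm ?_ ?_⟩
  · rw [ringKrullDim_quotient]
    refine iSup_le fun l => ?_
    obtain ⟨M, hM, hMq, -⟩ := hall l.head.1.asIdeal l.head.1.isPrime l.head.2
    let l' : LTSeries (PrimeSpectrum.zeroLocus (R := S) (M : Set S)) :=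
      { length := l.length
        toFun := fun i => ⟨(l i).1, hMq.trans (l.monotone (Fin.zero_le i))⟩
        step := fun i => l.step i }
    have h := Order.LTSeries.length_le_krullDim l'
    rw [← ringKrullDim_quotient, cdim_eq hM.1.1] at h
    exact h.trans (by exact_mod_cast hmax M hM)
  · rw [← cdim_eq hQ.1.1]
    exact ringKrullDim_le_of_surjective (Ideal.Quotient.factor hQ.1.2) (Ideal.Quotient.factor_surjective hQ.1.2)

theorem isHilb_top_eq_zero {P : ℚ[X]} (hP : IsHilb (n := n) (k := k) ⊤ P) : P = 0 :=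
  hP.unique ⟨0, fun m _ => by rw [eval_zero, hfun_top]⟩

/-- The degree formula. -/
theorem degree_formula {I : Ideal S} (hI : I.IsHomogeneous 𝒜) {P : ℚ[X]} (hP : IsHilb I P)
    {ι : Type*} [Fintype ι] (p : ι → Ideal S) [hp : ∀ i, (p i).IsPrime] (hinj : Function.Injective p)
    (hmin : ∀ q : Ideal S, q ∈ I.minimalPrimes ↔ ∃ i, q = p i) (Qp : ι → ℚ[X]) (hQp : ∀ i, IsHilb (p i) (Qp i)) :
    (P.natDegree.factorial : ℚ) * P.leadingCoeff =
      ∑ i, if (Qp i).natDegree = P.natDegree then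
        ((Qp i).natDegree.factorial : ℚ) * (Qp i).leadingCoeff * ((len (p i) I).toNat : ℚ) else 0 := by
  classical
  have hmem : ∀ i, p i ∈ I.minimalPrimes := fun i => (hmin _).2 ⟨i, rfl⟩
  have hhom : ∀ i, (p i).IsHomogeneous 𝒜 := fun i => isHomogeneous_of_mem_minimalPrimes hI (hmem i)
  by_cases htop : I = ⊤
  · subst htop
    have : IsEmpty ι := ⟨fun i => (hp i).ne_top (top_le_iff.1 (hmem i).1.2)⟩
    simp [isHilb_top_eq_zero hP]
  obtain ⟨D, hD, hex, -⟩ := exists_max_cdim hI htop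
  obtain ⟨hdeg, hP0, hlc⟩ := main hI hP hD hex
  rcases Nat.eq_zero_or_pos D with rfl | hD0
  · rw [hP0.2 rfl, leadingCoeff_zero, mul_zero, eq_comm]
    refine Finset.sum_eq_zero fun i _ => ?_
    have : Qp i = 0 := (hilb_prime (hp i) (hhom i) (hQp i)).2.2
      (Nat.le_zero.1 (hD _ (hp i) (hhom i) (hmem i).1.2))
    simp [this]
  let T : Finset (PrimeSpectrum S) :=
    (Finset.univ.filter fun i => cdim (p i) = D).map
      ⟨fun i => (⟨p i, hp i⟩ : PrimeSpectrum S), fun i j h => hinj (congrArg PrimeSpectrum.asIdeal h)⟩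
  rw [hlc T ?_ ?_, Finset.sum_map, Finset.mul_sum, Finset.sum_filter]
  · refine Finset.sum_congr rfl fun i _ => ?_
    obtain ⟨hd, h0⟩ := hilb_prime (hp i) (hhom i) (hQp i)
    have hiD := hD _ (hp i) (hhom i) (hmem i).1.2
    have hpos : 0 < cdim (p i) := by
      refine cdim_pos (hp i) (hhom i) fun e => ?_
      obtain ⟨q, hq, hqh, hIq, hqD⟩ := hex
      have h1 := (hmem i).2 ⟨hq, hIq⟩ (e ▸ le_m0 hq hqh)
      have h2 : q = m0 n k := le_antisymm (le_m0 hq hqh) (e ▸ h1)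
      rw [h2, cdim_m0] at hqD
      omega
    by_cases hc : cdim (p i) = D
    · rw [if_pos hc, if_pos (by omega)]
      simp only [Function.Embedding.coeFn_mk]
      rw [(hQp i).eq_hilb, Polynomial.leadingCoeff, show (Qp i).natDegree = D - 1 by omega, hdeg]
      ring
    · rw [if_neg hc, if_neg (by omega)]
  · intro q hq
    obtain ⟨i, hi, rfl⟩ := Finset.mem_map.1 hq
    exact ⟨hhom i, (Finset.mem_filter.1 hi).2⟩
  · intro q hqh hIq hqD
    obtain ⟨M, hM, hMq⟩ := Ideal.exists_minimalPrimes_le (J := q.asIdeal) hIq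
    obtain ⟨i, rfl⟩ := (hmin M).1 hM
    have he : p i = q.asIdeal := by
      by_contra hne
      have := cdim_lt (hp i) q.isPrime hMq hne
      have := hD _ (hp i) (hhom i) (hmem i).1.2
      omega
    refine Finset.mem_map.2 ⟨i, Finset.mem_filter.2 ⟨Finset.mem_univ i, by rw [he]; exact hqD⟩, ?_⟩
    exact PrimeSpectrum.ext he

end Groth.Agent.Hilb24
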